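import Cfsg.Agent.H0.TC
set_option maxRecDepth 100000
namespace H0.TCFi24b
open H0
noncomputable def r0 : TC.WTr := (.node (.node (.node (.node (.node (.node (.leaf [0] 0 0 false) (.leaf [6, 0] 72 0 false)) (.leaf [8] 8 0 false)) (.node (.node (.leaf [4] 4 0 false) (.leaf [10, 0] 76 0 false)) (.leaf [2, 0] 68 0 false))) (.node (.node (.node (.leaf [2] 2 0 false) (.leaf [8, 0] 74 0 false)) (.leaf [10] 10 0 false)) (.node (.leaf [6] 6 0 false) (.leaf [4, 0] 70 0 false)))) (.node (.node (.node (.node (.leaf [1] 1 0 false) (.leaf [7, 0] 73 0 false)) (.leaf [9] 9 0 false)) (.node (.leaf [5] 5 0 false) (.leaf [3, 0] 69 0 false))) (.node (.node (.node (.leaf [3] 3 0 false) (.leaf [9, 0] 75 0 false)) (.leaf [1, 0] 67 0 false)) (.node (.leaf [7] 7 0 false) (.leaf [5, 0] 71 0 false))))) (.node (.node (.node (.node (.node (.leaf [11, 1] 67 2 false) (.leaf [6, 0] 72 0 false))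 (.leaf [0, 18] 74 1 false)) (.node (.node (.leaf [0, 14] 70 1 false) (.leaf [10, 0] 76 0 false)) (.leaf [2, 0] 68 0 false))) (.node (.node (.node (.leaf [0, 12] 68 1 false) (.leaf [8, 0] 74 0 false)) (.leaf [0, 20] 76 1 false)) (.node (.leaf [0, 16] 72 1 false) (.leaf [4, 0] 70 0 false)))) (.node (.node (.node (.node (.leaf [1] 1 0 false) (.leaf [7, 0] 73 0 false)) (.leaf [0, 19] 75 1 false)) (.node (.leaf [0, 15] 71 1 false) (.leaf [3, 0] 69 0 false))) (.node (.node (.node (.leaf [0, 13] 69 1 false) (.leaf [9, 0] 75 0 false)) (.leaf [1, 0] 67 0 false)) (.node (.leaf [0, 17] 73 1 false) (.leaf [5, 0] 71 0 false))))))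
noncomputable def tS : Tr := (.leaf (nat_lit 0xfffffffffff88888888804f000000000077777777737))
noncomputable def tJ : Tr := (.leaf (nat_lit 0x4000000000342aaaa955550))
noncomputable def tQ : Tr := (.leaf (nat_lit 0x0))
noncomputable def tR : TC.WTr := r0
def hl : List ℕ := [11, 12, 13, 14, 15, 16, 17, 18, 19, 20]
def B : List (List ℕ) := [[0, 0], [1, 1], [2, 2], [3, 3], [4, 4], [5, 5], [6, 6], [7, 7], [8, 8], [9, 9], [10, 10], [1, 2, 1, 2, 1, 2], [1, 3, 1, 3], [1, 4, 1, 4], [1, 5, 1, 5], [1, 6, 1, 6], [1, 7, 1, 7], [1, 8, 1, 8], [1, 9, 1, 9], [1, 10, 1, 10], [2, 3, 2, 3, 2, 3], [2, 4, 2, 4], [2, 5, 2, 5], [2, 6, 2, 6], [2, 7, 2, 7], [2, 8, 2, 8], [2, 9, 2, 9], [2, 10, 2, 10], [3, 4, 3, 4, 3, 4], [3, 5, 3, 5], [3, 6, 3, 6], [3, 7, 3, 7], [3, 8, 3, 8], [3, 9, 3, 9], [3, 10, 3, 10], [4, 5, 4, 5, 4, 5], [4, 6, 4, 6], [4, 7, 4, 7], [4, 8, 4, 8], [4, 9, 4, 9, 4, 9], [4,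 10, 4, 10], [5, 6, 5, 6, 5, 6], [5, 7, 5, 7], [5, 8, 5, 8], [5, 9, 5, 9], [5, 10, 5, 10], [6, 7, 6, 7, 6, 7], [6, 8, 6, 8], [6, 9, 6, 9], [6, 10, 6, 10], [7, 8, 7, 8, 7, 8], [7, 9, 7, 9], [7, 10, 7, 10], [8, 9, 8, 9], [8, 10, 8, 10], [9, 10, 9, 10, 9, 10], [0, 9, 6, 5, 4, 3, 2, 1, 9, 6, 5, 4, 3, 2, 1, 9, 6, 5, 4, 3, 2, 1, 9, 6, 5, 4, 3, 2, 1, 9, 6, 5, 4, 3, 2, 1, 9, 6, 5, 4, 3, 2, 1, 9, 6, 5, 4, 3, 2, 1, 9, 6, 5, 4, 3, 2, 1, 9, 6, 5, 4, 3, 2, 1], [0, 1, 0, 1], [0, 2, 0, 2], [0, 3, 0, 3], [0, 4, 0, 4], [0, 5, 0, 5], [0, 6, 0, 6], [0, 7, 0, 7], [0, 8, 0, 8], [0, 9, 0, 9], [0, 10, 0, 10]]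
def subs : List (List ℕ) := [[1, 0], [2, 0], [3, 0], [4, 0], [5, 0], [6, 0], [7, 0], [8, 0], [9, 0], [10, 0]]
def ex : List (List ℕ) := [[1, 0], [2, 0], [3, 0], [4, 0], [5, 0], [6, 0], [7, 0], [8, 0], [9, 0], [10, 0]]
def inv (x : ℕ) : ℕ := [0, 1, 2, 3, 4, 5, 6, 7, 8, 9, 10].getD x 0
noncomputable def rS : ℕ → ℕ := rowOf tS (nat_lit 8) (nat_lit 255) (nat_lit 88) (nat_lit 309485009821345068724781055)
noncomputable def rJ : ℕ → ℕ := rowOf tJ (nat_lit 8) (nat_lit 255) (nat_lit 46) (nat_lit 70368744177663)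
noncomputable def C : TC.Cfg where
  S := look rS (nat_lit 4) (nat_lit 15)
  J := look rJ (nat_lit 2) (nat_lit 3)
  Q := lookQ tQ (nat_lit 8) (nat_lit 1) (nat_lit 1)
  R := tR.get
  hl := fun x => hl.contains x
  n := (nat_lit 2)
  M := (nat_lit 2)
  top := (nat_lit 10)
  nl := (nat_lit 21)
  need := (nat_lit 11)
  nr := (nat_lit 2)
theorem k0 : TC.chkRange C 0 1 = true := by decide +kernel
theorem rows0 : ∀ c < (0 + 1) * 64, c < C.M → TC.chkRow C c = true :=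
  TC.rows_step (TC.rows_zero C) k0
theorem main {G : Type*} [Group G] (g : ℕ → G) (hB : ∀ r ∈ B, ev g r = 1) (H : Subgroup G)
    (hH : ∀ w ∈ subs, ev g w ∈ H) :
    H.relIndex (Subgroup.closure (g '' {x | x < 11})) ≠ 0 ∧
      H.relIndex (Subgroup.closure (g '' {x | x < 11})) ≤ 2 :=
  TC.index_le C B subs ex inv hl tR.hint rfl (by decide +kernel) (by decide +kernel)
    (TC.rows_done rows0 (by decide +kernel)) g hB H hH
end H0.TCFi24b
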